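import Cfsg.Agent.H900.TwD.Four
import Cfsg.Agent.H350.Tri.Model
import Cfsg.Agent.H225.Gen.Row
import Cfsg.Agent.H818.Gen.OfGen
import Cfsg.Agent.H818.Gen.Rows
import Cfsg.Agent.H751.Two.Rows
import Cfsg.Agent.S1071

/-!
# S2187: the row of `³D₄(q)`, `p > 3`, from the overgroup theorem (X6, helper900)

* `gen_td4` : from the inner-diagonal part;
* `row_td4` : the field `td4` of `H818.Gen.Missing`.
-/

set_option autoImplicit false
set_option linter.unusedSectionVars false

namespace Cfsg.Agent.H900.TwD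

open CoxeterSystem Subgroup Cfsg Cfsg.Lie Cfsg.Lie.ChevalleyDatum
open Cfsg.Agent.ChevalleyStructure Cfsg.Agent.ChevalleyStructure.Elts Cfsg.Agent.ChevStructure.FieldMap
open Cfsg.Agent.ChevalleyStructure.GraphSymm (symmD4a)
open Cfsg.Agent.CpAut.RgdTwD4
open Cfsg.Agent.CpAut.RgdUntw (fld)
open Cfsg.Agent.GpExc.Field (glMap coe_glMap)
open Cfsg.Agent.BpExc.FamTw.Gr (gr)
open Cfsg.Agent.BpExc.FamField (frb)
open Cfsg.Agent.BpExc.FamUntw (phi)
open Cfsg.Agent.H28.FamFour (em em_injective coe_em eq_one_of_comm)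
open Cfsg.Agent.H469.Exc (KK)
open Cfsg.Agent.H818.Gen Cfsg.Agent.H316.U6 Cfsg.Agent.H28.GenF

section

variable {r : ℕ} [hr : Fact r.Prime]

/-- **`³D₄(q)` from its inner-diagonal part and the overgroup theorem.** -/
theorem gen_td4 (OV : OverD4) {p : ℕ} (hpp : p.Prime) (hp5 : 5 ≤ p)
    (hin : ∀ (K : Type) [Field K] [Fintype K] [CharP K r] (q n : ℕ) (f : K →+* KK r)
      (m : MData Nodes.RGDTwD4.hp r q ↥(twistedD4 K q)), IsPrimePow q → Fintype.card K = q ^ 3 → q = r ^ n →
      (∀ z, (∀ a, z * m.ι a = m.ι a * z) → z = 1) → (∀ a, m.ι a = em q f a) →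
      m.g = H720.TwFr.permE H720.TwFr.rho4 → GenIn m p) :
    ∀ (K : Type) [Field K] [Fintype K] [CharP K r] (q : ℕ), IsPrimePow q → Fintype.card K = q ^ 3 →
      Gen p ↥(twistedD4 K q) := by
  have : Fact p.Prime := ⟨hpp⟩
  have key : ∀ (c : ℕ) (K : Type) [Field K] [Fintype K] [CharP K r], IsPrimePow c → Fintype.card K = c ^ 3 →
      Gen p ↥(twistedD4 K c) := by
    intro c
    induction c using Nat.strong_induction_on with
    | _ c ih =>
      intro K _ _ _ hc hK E hE hE2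
      obtain ⟨n, f, m, hn0, hn, hσ, hι, hg⟩ := H350.Tri.mdata_td4 (r := r) hc hK
      have hem : ∀ a, m.ι a = em c f a := fun a => Subtype.ext (hι a)
      obtain ⟨φ, hφ⟩ := D4Fixed.exists_frob hc hK
      have hcc : ∀ z : ↥(chevD4.group (KK r)), (∀ a, z * m.ι a = m.ι a * z) → z = 1 := fun z hz =>
        eq_one_of_comm hφ hK f fun g => by
          rw [← hem]
          exact hz g
      by_cases h : E ≤ InD (em c f)
      · refine top_of_inner m.inj m.norm hcc (hin K c n f m hc hK hn hcc hem hg) hE hE2 fun e he he1 => ?_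
        obtain ⟨y, hy⟩ := h he
        have hy' : ∀ a, m.ι (e a) = y * m.ι a * y⁻¹ := fun a => by rw [hem, hem, hy]
        refine ⟨y, ?_, hy'⟩
        have h2 : y⁻¹ * m.σ y = 1 := by
          apply hcc
          intro a
          have h3 : m.σ y * m.ι a * (m.σ y)⁻¹ = y * m.ι a * y⁻¹ := by
            rw [← hy', ← m.fix (e a), hy', map_mul, map_mul, map_inv, m.fix]
          calc y⁻¹ * m.σ y * m.ι a = y⁻¹ * (m.σ y * m.ι a * (m.σ y)⁻¹) * m.σ y := by group
            _ = y⁻¹ * (y * m.ι a * y⁻¹) * m.σ y := by rw [h3]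
            _ = m.ι a * (y⁻¹ * m.σ y) := by group
        exact (inv_mul_eq_one.1 h2).symm
      · obtain ⟨x, hx, hx'⟩ := Set.not_subset.1 h
        exact top_td4 hc hK hpp hp5 f hn0 hn OV (fun K₀ _ _ _ q₀ h0 h1 h2 => ih q₀ h0 K₀ h1 h2) hE hE2 hx hx'
  exact fun K _ _ _ q h1 h2 => key q K h1 h2

end

/-- **The row `³D₄(q)`, `p > 3`.** -/
theorem row_td4 (OV : OverD4) {K : Type} [Field K] [Fintype K] {r p : ℕ} [CharP K r] (hC : Cond r p) (h3 : 3 < p)
    {q : ℕ} (hq : IsPrimePow q) (hK : Fintype.card K = q ^ 3) : Gen p ↥(twistedD4 K q) := by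
  have hr := Fact.mk hC.r_prime
  have hpp := Fact.mk hC.p_prime
  have hp5 : 5 ≤ p := by
    have h4 : p ≠ 4 := by
      intro h
      have := hC.p_prime
      rw [h] at this
      exact absurd this (by norm_num)
    omega
  refine gen_td4 (r := r) OV hC.p_prime hp5 ?_ K q hq hK
  intro K _ _ _ q n f m hq hK hn hcc hem hg
  have : IsSimpleGroup ↥(twistedD4 K q) := (S1071.result hq hK).1
  have hq2 := hq.two_le
  rcases (by omega : q = 2 ∨ 3 ≤ q) with h | h
  · subst h
    have hr2 : r = 2 := (Nat.prime_dvd_prime_iff_eq hC.r_prime Nat.prime_two).1 (by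
      have h1 := m.hq
      rw [← h1]
      exact dvd_pow_self r m.he.ne')
    rcases hC.big with h7 | h7
    · exact genIn_of_gen m hcc (H751.Two.Rows.gen_td4_two (by rw [hK]; norm_num) hC.p_prime h7)
    · exact absurd hr2 h7
  · exact H225.Gen.genIn_D4 hC.p_prime hC.p_ne_r m hg (by omega) h

end Cfsg.Agent.H900.TwD
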