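import Cfsg.Agent.H28.GenF.Abs
import Cfsg.Agent.H28.T5TwFour
import Cfsg.Agent.H192.FcUntw

/-!
# S2187, field automorphisms of `³D₄(q)`, `p > 3` (X6, helper900)

* `OverD4` : the overgroup theorem (statement);
* `swap_rel` : the graph automorphism swapping two outer nodes inverts the triality automorphism;
* `fix4`, `cent4` : the fixed points of `phi4` are the group `³D₄` over the subfield, with exponent `q`;
* `ff_td4` : the frame `FF` for `³D₄(q) ≤ D₄(k)`;
* `top_td4` : `Gam p E = ⊤` for `E` containing an outer automorphism.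
-/

set_option autoImplicit false
set_option linter.unusedSectionVars false

namespace Cfsg.Agent.H900.TwD

open CoxeterSystem Subgroup Cfsg Cfsg.Lie Cfsg.Lie.ChevalleyDatum
open Cfsg.Agent.ChevalleyStructure Cfsg.Agent.ChevalleyStructure.Elts Cfsg.Agent.ChevStructure.FieldMap
open Cfsg.Agent.ChevalleyStructure.GraphSymm (symmD4a)
open Cfsg.Agent.CpAut.RgdTwD4
open Cfsg.Agent.CpAut.RgdUntw (fld fld_coe fld_pow fld_mul)
open Cfsg.Agent.GpExc.Field (glMap coe_glMap glMap_xG glMap_injective)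
open Cfsg.Agent.BpExc.FamTw.Gr (gr coe_gr gr_xg aut_ext gr_sq glMap_P gr_mul_fld xg)
open Cfsg.Agent.BpExc.TowChev (LocFin locFin_of_isAlgebraic)
open Cfsg.Agent.BpExc.FamField (frb frb_apply frb_pow)
open Cfsg.Agent.BpExc.FamUntw (phi phi_pow)
open Cfsg.Agent.H28.FamFour (em em_injective coe_em gr_cube_D4 eq_one_of_comm)
open Cfsg.Agent.H28.T5TwFour (phi4 phi4_em phi4_pow gr_comm std4 cases4)
open Cfsg.Agent.H818.Gen Cfsg.Agent.H972.Gen Cfsg.Agent.H28.GenF

/-- the overgroup theorem for `³D₄` -/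
def OverD4 : Prop :=
  ∀ {K : Type} [Field K] [Fintype K] (r : ℕ) [Fact r.Prime] [CharP K r] {q q0 p : ℕ}, (∃ a, 1 ≤ a ∧ q0 = r ^ a) →
    p.Prime → 3 < p → q = q0 ^ p → Fintype.card K = q ^ 3 → ∀ (K0 : Subfield K), Nat.card K0 = q0 ^ 3 →
    ∀ (H : Subgroup (GL chevD4.Idx K)), H ≤ twistedD4 K q →
    (∀ g ∈ twistedD4 ↥K0 q, Units.map (RingHom.mapMatrix K0.subtype).toMonoidHom g ∈ H) →
    H = twistedD4 K q ∨ ∀ g ∈ H, ∀ i j, ((g : Matrix chevD4.Idx chevD4.Idx K) i j) ^ (q0 ^ 3) =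
      (g : Matrix chevD4.Idx chevD4.Idx K) i j

section Res

variable {k₀ K : Type} [Field k₀] [Field K] {q : ℕ} (f : k₀ →+* K)

theorem tw4_le : twistedD4 k₀ q ≤ (twistedD4 K q).comap (glMap chevD4 f) := by
  rw [tw_le_iff]
  refine ⟨fun t ht r hr => ?_, fun t rs hr => ?_⟩
  · show glMap chevD4 f (xG hD4 r t) ∈ twistedD4 K q
    rw [glMap_xG]
    exact single_mem (by rw [← map_pow, ht]) hr
  · show glMap chevD4 f (xG hD4 rs.1 t * (xG hD4 rs.2.1 (t ^ q) * xG hD4 rs.2.2 (t ^ (q ^ 2)))) ∈ twistedD4 K q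
    rw [map_mul, map_mul, glMap_xG, glMap_xG, glMap_xG, map_pow, map_pow]
    exact triple_mem (f t) hr

/-- the entrywise map -/
noncomputable def res4 : ↥(twistedD4 k₀ q) →* ↥(twistedD4 K q) where
  toFun g := ⟨glMap chevD4 f g, tw4_le f g.2⟩
  map_one' := Subtype.ext (map_one _)
  map_mul' _ _ := Subtype.ext (map_mul _ _ _)

theorem coe_res4 (g : ↥(twistedD4 k₀ q)) : ((res4 f g : ↥(twistedD4 K q)) : GL chevD4.Idx K) =
    glMap chevD4 f g := rfl

theorem res4_injective : Function.Injective (res4 (q := q) f) := fun _ _ h =>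
  Subtype.ext (glMap_injective chevD4 f (congrArg Subtype.val h))

theorem em_res4 {L : Type} [Field L] (g : K →+* L) (a : ↥(twistedD4 k₀ q)) :
    em q g (res4 f a) = em q (g.comp f) a := by
  apply Subtype.ext
  apply Units.ext
  rw [coe_em, coe_em, coe_res4, coe_glMap, coe_glMap, coe_glMap, Matrix.map_map]
  rfl

end Res

/-! ### the swap -/

section Swap

theorem fix_of_rel {Y : Type*} [Group Y] {a b s : MulAut Y} (h : a * s = s * b) {y : Y} (hy : b y = y) :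
    a (s y) = s y := by
  have h1 := DFunLike.congr_fun h y
  rwa [MulAut.mul_apply, MulAut.mul_apply, hy] at h1

theorem swap_tab : ∀ r : Fin chevD4.nroots, symS.σ (symmD4a.σ r) = symmD4a.σ (symmD4a.σ (symS.σ r)) ∧
    symS.ε (symmD4a.σ r) * symmD4a.ε r =
      symmD4a.ε (symmD4a.σ (symS.σ r)) * (symmD4a.ε (symS.σ r) * symS.ε r) := by decide +kernel

theorem swap_sq : ∀ r : Fin chevD4.nroots, symS.σ (symS.σ r) = r ∧ symS.ε (symS.σ r) * symS.ε r = 1 := by
  decide +kernel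

variable {L : Type} [Field L]

theorem swap_rel : (gr hD4 symS * gr hD4 symmD4a : MulAut ↥(chevD4.group L)) =
    gr hD4 symmD4a ^ 2 * gr hD4 symS := by
  refine aut_ext hD4 fun r t => ?_
  rw [pow_two, MulAut.mul_apply, MulAut.mul_apply, MulAut.mul_apply, gr_xg, gr_xg, gr_xg, gr_xg, gr_xg,
    (swap_tab r).1]
  congr 1
  rw [← mul_assoc, ← mul_assoc, ← mul_assoc, ← Int.cast_mul, ← Int.cast_mul, ← Int.cast_mul, (swap_tab r).2, mul_assoc]

theorem gr_swap_sq : (gr hD4 symS : MulAut ↥(chevD4.group L)) ^ 2 = 1 := gr_sq hD4 symS swap_sq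

theorem gr_swap_swap (z : ↥(chevD4.group L)) : gr hD4 symS (gr hD4 symS z) = z := by
  rw [← MulAut.mul_apply, ← pow_two, gr_swap_sq]
  rfl

/-- conjugation by the swap, exponents `q` and `q'` inverse to each other -/
theorem em_swap {k : Type} [Field k] {q q' : ℕ} (h : ∀ t : k, (t ^ q) ^ q = t ^ q')
    (h' : ∀ t : k, (t ^ q') ^ q' = t ^ q) (f : k →+* L) (b : ↥(twistedD4 k q)) :
    gr hD4 symS (em q f b) = em q' f (swapHom h h' b) := by
  apply Subtype.ext
  rw [coe_gr, coe_em, coe_em]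
  show _ = glMap chevD4 f (symS.P k * (b : GL chevD4.Idx k) * (symS.P k)⁻¹)
  rw [map_mul, map_mul, map_inv, glMap_P]

end Swap

/-! ### exponents -/

section Exp

theorem pow_iter3 {F : Type} [Field F] {c : ℕ} {t : F} (ht : t ^ (c ^ 3) = t) (k : ℕ) : t ^ (c ^ (3 * k)) = t := by
  induction k with
  | zero => rw [mul_zero, pow_zero, pow_one]
  | succ k ih => rw [mul_add, mul_one, pow_add, pow_mul, ih, ht]

theorem pow_mod3 {F : Type} [Field F] {c : ℕ} {t : F} (ht : t ^ (c ^ 3) = t) (p : ℕ) :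
    t ^ (c ^ p) = t ^ (c ^ (p % 3)) := by
  conv_lhs => rw [← Nat.div_add_mod p 3]
  rw [pow_add, pow_mul, pow_iter3 ht]

theorem card_sub4 {F : Type} [Field F] [Fintype F] {c : ℕ} (hF : Fintype.card F = c ^ 3) (t : F) :
    t ^ (c ^ 3) = t := by
  rw [← hF]
  exact FiniteField.pow_card t

end Exp

section Fix

variable {r : ℕ} [Fact r.Prime] {k : Type} [Field k] [Fintype k] [CharP k r] {q q0 p m : ℕ}
  (hk : Fintype.card k = q0 ^ 3) (hm : 0 < m) (hq0 : q0 = r ^ m) (hq : q = q0 ^ p) (hpp : p.Prime) (hp5 : 5 ≤ p)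

include hk hq in
/-- the two cases -/
theorem mod_cases (hpp : p.Prime) (hp5 : 5 ≤ p) : (p % 3 = 1 ∧ ∀ t : k, t ^ q = t ^ q0) ∨
    (p % 3 = 2 ∧ (∀ t : k, (t ^ q0) ^ q0 = t ^ q) ∧ ∀ t : k, (t ^ q) ^ q = t ^ q0) := by
  have h0 := H28.T5TwFour.mod_three hpp hp5
  have h1 : ∀ t : k, t ^ q = t ^ (q0 ^ (p % 3)) := fun t => by
    rw [hq]
    exact pow_mod3 (card_sub4 hk t) p
  rcases (by omega : p % 3 = 1 ∨ p % 3 = 2) with h | h
  · left
    exact ⟨h, fun t => by rw [h1, h, pow_one]⟩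
  · right
    refine ⟨h, fun t => by rw [h1, h, ← pow_mul, pow_two], fun t => ?_⟩
    rw [h1, h1, h, ← pow_mul]
    have e : q0 ^ 2 * q0 ^ 2 = q0 ^ 3 * q0 := by ring
    rw [e, pow_mul, card_sub4 hk]

include hk hm hq0 hq hpp hp5 in
/-- **The fixed points.** -/
theorem fix4 (f : k →+* AlgebraicClosure (ZMod r)) {y : ↥(chevD4.group (AlgebraicClosure (ZMod r)))}
    (hy : phi4 (AlgebraicClosure (ZMod r)) r m p y = y) : ∃ b : ↥(twistedD4 k q), em q f b = y := by
  have hloc : LocFin (AlgebraicClosure (ZMod r)) := locFin_of_isAlgebraic r _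
  have hdesc : ∀ z, (gr hD4 symmD4a * fld chevD4 (frb (AlgebraicClosure (ZMod r)) r m) :
      MulAut ↥(chevD4.group (AlgebraicClosure (ZMod r)))) z = z →
      ∃ b : ↥(twistedD4 k q0), em q0 f b = z := fun z hz =>
    H720.TwFr.desc4 f r (H27.Exc.twistedD4_le_group q0) hloc hm hq0 hk (y := z) hz
  rcases mod_cases (k := k) hk hq hpp hp5 with ⟨h, h1⟩ | ⟨h, h1, h2⟩
  · have h3 : gr (L := AlgebraicClosure (ZMod r)) hD4 symmD4a ^ p = gr hD4 symmD4a := by
      conv_lhs => rw [← Nat.div_add_mod p 3, h]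
      rw [pow_add, pow_mul, gr_cube_D4, one_pow, one_mul, pow_one]
    unfold phi4 at hy
    rw [h3] at hy
    obtain ⟨b, rfl⟩ := hdesc y hy
    exact ⟨⟨b, by rw [tw_congr h1]; exact b.2⟩, rfl⟩
  · have h3 : gr (L := AlgebraicClosure (ZMod r)) hD4 symmD4a ^ p = gr hD4 symmD4a ^ 2 := by
      conv_lhs => rw [← Nat.div_add_mod p 3, h]
      rw [pow_add, pow_mul, gr_cube_D4, one_pow, one_mul]
    unfold phi4 at hy
    rw [h3] at hy
    have h4 : gr (L := AlgebraicClosure (ZMod r)) hD4 symmD4a * gr hD4 symS = gr hD4 symS * gr hD4 symmD4a ^ 2 := by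
      have h5 := swap_rel (L := AlgebraicClosure (ZMod r))
      have h6 := gr_swap_sq (L := AlgebraicClosure (ZMod r))
      have h7 : gr (L := AlgebraicClosure (ZMod r)) hD4 symS * (gr hD4 symS * gr hD4 symmD4a) * gr hD4 symS =
          gr hD4 symS * (gr hD4 symmD4a ^ 2 * gr hD4 symS) * gr hD4 symS := by rw [h5]
      rw [← mul_assoc, ← pow_two, h6, one_mul] at h7
      rw [h7, mul_assoc, mul_assoc, ← pow_two, h6, mul_one]
    have h5 : (gr hD4 symmD4a * fld chevD4 (frb (AlgebraicClosure (ZMod r)) r m) :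
        MulAut ↥(chevD4.group (AlgebraicClosure (ZMod r)))) * gr hD4 symS =
        gr hD4 symS * (gr hD4 symmD4a ^ 2 * fld chevD4 (frb (AlgebraicClosure (ZMod r)) r m)) := by
      rw [mul_assoc, ← gr_mul_fld, ← mul_assoc, h4, mul_assoc]
    obtain ⟨b, hb⟩ := hdesc (gr hD4 symS y) (fix_of_rel h5 hy)
    refine ⟨swapHom h1 h2 b, ?_⟩
    rw [← em_swap h1 h2, hb, gr_swap_swap]

include hk hm hq0 hq hpp hp5 in
/-- **The centralizer.** -/
theorem cent4 (f : k →+* AlgebraicClosure (ZMod r)) {y : ↥(chevD4.group (AlgebraicClosure (ZMod r)))}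
    (hy : ∀ b : ↥(twistedD4 k q), y * em q f b = em q f b * y) : y = 1 := by
  have hr : r.Prime := Fact.out
  have hqq : IsPrimePow q0 := (isPrimePow_nat_iff _).2 ⟨r, m, hr, hm, hq0.symm⟩
  obtain ⟨φ, hφ⟩ := D4Fixed.exists_frob hqq hk
  rcases mod_cases (k := k) hk hq hpp hp5 with ⟨h, h1⟩ | ⟨h, h1, h2⟩
  · exact eq_one_of_comm hφ hk f fun b => hy ⟨b, by rw [tw_congr h1]; exact b.2⟩
  · have h3 : gr hD4 symS y = 1 := eq_one_of_comm hφ hk f fun b => by
      have h4 := congrArg (gr (L := AlgebraicClosure (ZMod r)) hD4 symS) (hy (swapHom h1 h2 b))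
      rwa [map_mul, map_mul, ← em_swap h1 h2, gr_swap_swap] at h4
    exact (gr (L := AlgebraicClosure (ZMod r)) hD4 symS).injective (by rw [h3, map_one])

include hk hq hpp hp5 in
/-- **The inductive input.** -/
theorem gen4 (h : Gen p ↥(twistedD4 k q0)) : Gen p ↥(twistedD4 k q) := by
  rcases mod_cases (k := k) hk hq hpp hp5 with ⟨-, h1⟩ | ⟨-, h1, h2⟩
  · rw [tw_congr h1]
    exact h
  · obtain ⟨e⟩ := swap_equiv h1 h2
    exact h.congr e

end Fix

section Ff

variable {r : ℕ} [Fact r.Prime]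

/-- **The frame of a field automorphism of `³D₄(q)`.** -/
theorem ff_td4 (OV : OverD4) {K : Type} [Field K] [Fintype K] [CharP K r] {q : ℕ} (hq : IsPrimePow q)
    (hK : Fintype.card K = q ^ 3) {p : ℕ} (hpp : p.Prime) (hp5 : 5 ≤ p) (f : K →+* AlgebraicClosure (ZMod r))
    {n m : ℕ} (hn : q = r ^ n) (hn0 : 0 < n) (hm : 0 < m) (hmn : m * p = n) {K₀ : Subfield K}
    (hK₀ : Nat.card ↥K₀ = (r ^ m) ^ 3) (hgen : Gen p ↥(twistedD4 ↥K₀ (r ^ m))) :
    FF p (em q f) (gr hD4 symmD4a * fld chevD4 (frb (AlgebraicClosure (ZMod r)) r n))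
      (phi4 (AlgebraicClosure (ZMod r)) r m p) (res4 (q := q) K₀.subtype).range := by
  have hchar : CharP ↥K₀ r := (RingHom.charP_iff K₀.subtype K₀.subtype.injective r).2 inferInstance
  have hfin : Fintype ↥K₀ := Fintype.ofFinite _
  have hr : r.Prime := Fact.out
  have hK₀' : Fintype.card ↥K₀ = (r ^ m) ^ 3 := by rw [← Nat.card_eq_fintype_card, hK₀]
  have hqm : q = (r ^ m) ^ p := by rw [hn, ← hmn, pow_mul]
  obtain ⟨f₀, hf₀⟩ : ∃ f₀ : ↥K₀ →+* AlgebraicClosure (ZMod r), f₀ = f.comp K₀.subtype := ⟨_, rfl⟩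
  obtain ⟨φ, hφ⟩ := D4Fixed.exists_frob hq hK
  have hem : ∀ b, em q f (res4 K₀.subtype b) = em q f₀ b := fun b => by rw [em_res4, hf₀]
  have hS := std4 hq hK f hn0 hn hpp hp5 hm hmn
  have hloc : LocFin (AlgebraicClosure (ZMod r)) := locFin_of_isAlgebraic r _
  -- the elements with entries in the subfield are fixed
  have hfixE : ∀ a : ↥(twistedD4 K q), (∀ i j, (((a : GL chevD4.Idx K) : Matrix chevD4.Idx chevD4.Idx K) i j) ^
      ((r ^ m) ^ 3) = ((a : GL chevD4.Idx K) : Matrix chevD4.Idx chevD4.Idx K) i j) →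
      phi4 (AlgebraicClosure (ZMod r)) r m p (em q f a) = em q f a := by
    intro a ha
    rw [← phi4_em hK f hn hφ hmn]
    congr 1
    apply Subtype.ext
    apply Units.ext
    ext i j
    show (frb K r (2 * (p * m)) ^ p * frb K r m) (((a : GL chevD4.Idx K) : Matrix chevD4.Idx chevD4.Idx K) i j) = _
    obtain ⟨c, hc⟩ : ∃ c, c = ((a : GL chevD4.Idx K) : Matrix chevD4.Idx chevD4.Idx K) i j := ⟨_, rfl⟩
    have h1 := ha i j
    rw [← hc] at h1 ⊢
    obtain ⟨s, hs⟩ : ∃ s, 2 * (p * p) + 1 = 3 * s := by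
      have h0 := H28.T5TwFour.mod_three hpp hp5
      have h2 : p * p % 3 = 1 := by
        rw [Nat.mul_mod]
        have : p % 3 = 1 ∨ p % 3 = 2 := by omega
        rcases this with h | h <;> rw [h]
      exact ⟨(2 * (p * p) + 1) / 3, by omega⟩
    rw [RingAut.mul_apply, frb_pow, frb_apply, frb_apply, ← pow_mul, ← pow_add]
    have h3 : m + 2 * (p * m) * p = m * (3 * s) := by rw [← hs]; ring
    rw [h3, pow_mul]
    exact pow_iter3 h1 s
  have hfixm : ∀ b, phi4 (AlgebraicClosure (ZMod r)) r m p (em q f₀ b) = em q f₀ b := fun b => by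
    rw [← hem]
    refine hfixE _ fun i j => ?_
    show (K₀.subtype (((b : GL chevD4.Idx ↥K₀) : Matrix chevD4.Idx chevD4.Idx ↥K₀) i j)) ^ ((r ^ m) ^ 3) =
      K₀.subtype (((b : GL chevD4.Idx ↥K₀) : Matrix chevD4.Idx chevD4.Idx ↥K₀) i j)
    rw [← map_pow, card_sub4 hK₀']
  refine
    { inj := hS.inj
      cent := hS.cent
      fixι := hS.fixι
      norm := fun y hy a => ?_
      pow := hS.pow
      lang := hS.lang
      genL := (gen4 hK₀' hqm hpp hp5 hgen).congr (MonoidHom.ofInjective (res4_injective K₀.subtype))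
      fixL := ?_
      charL := ?_
      overL := ?_
      centL := ?_ }
  · obtain ⟨b, rfl⟩ := H720.TwFr.desc4 f r (H27.Exc.twistedD4_le_group q) hloc hn0 hn hK (y := y) hy
    exact ⟨b * a * b⁻¹, by rw [map_mul, map_mul, map_inv]; rfl⟩
  · rintro _ ⟨b, rfl⟩
    rw [hem, hfixm]
  · rintro x hx _ ⟨b, rfl⟩
    have h2 := hx (res4 K₀.subtype b) (by rw [hem, hfixm])
    obtain ⟨b', hb'⟩ := fix4 hK₀' hm rfl hqm hpp hp5 f₀ h2
    exact ⟨b', em_injective f (by rw [hem, hb'])⟩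
  · intro M hM
    rcases OV r (q := q) (q0 := r ^ m) (p := p) ⟨m, hm, rfl⟩ hpp (by omega) hqm hK K₀ hK₀
      (M.map (twistedD4 K q).subtype) (map_subtype_le _) (fun g hg =>
        ⟨res4 K₀.subtype ⟨g, hg⟩, hM ⟨⟨g, hg⟩, rfl⟩, rfl⟩) with h | h
    · left
      rw [eq_top_iff]
      rintro ⟨g, hg⟩ _
      have hg' := hg
      rw [← h] at hg'
      obtain ⟨a, ha, e⟩ := hg'
      have e' : a = ⟨g, hg⟩ := Subtype.ext e
      rwa [← e']
    · right
      intro a ha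
      exact hfixE a fun i j => h _ ⟨a, ha, rfl⟩ i j
  · intro y hy
    exact cent4 hK₀' hm rfl hqm hpp hp5 f₀ fun b => by
      rw [← hem]
      exact hy _ ⟨b, rfl⟩

end Ff

section Main

variable {r : ℕ} [Fact r.Prime] {K : Type} [Field K] [Fintype K] [CharP K r] {q : ℕ} (hq : IsPrimePow q)
  (hK : Fintype.card K = q ^ 3) {p : ℕ} (hpp : p.Prime) (hp5 : 5 ≤ p) (f : K →+* AlgebraicClosure (ZMod r)) {n : ℕ}
  (hn0 : 0 < n) (hn : q = r ^ n)

include hq hK hpp hp5 hn0 hn in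
/-- the automorphisms of order `p` -/
theorem cases_td4 {x : MulAut ↥(twistedD4 K q)} (hx : x ^ p = 1) :
    x ∈ InD (em q f) ∨ (n / p * p = n ∧ 0 < n / p ∧ ∃ (i : ℕ) (y : ↥(chevD4.group (AlgebraicClosure (ZMod r)))),
      i.Coprime p ∧ ∀ a, em q f ((x ^ i) a) = (MulAut.conj y * phi4 (AlgebraicClosure (ZMod r)) r (n / p) p)
        (em q f a)) := by
  have : Fact p.Prime := ⟨hpp⟩
  by_cases h1 : x = 1
  · left
    rw [h1]
    exact one_mem _
  by_cases h2 : ∃ g, x = MulAut.conj g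
  · left
    obtain ⟨g, rfl⟩ := h2
    exact ⟨em q f g, fun a => by rw [MulAut.conj_apply, map_mul, map_mul, map_inv]⟩
  · right
    obtain ⟨h3, h4, h5⟩ := cases4 hq hK f hn0 hn hpp hp5 x (orderOf_eq_prime hx h1) h2
    exact ⟨h4, h3, h5⟩

include hq hK hpp hp5 hn0 hn in
/-- **Outer automorphisms.** -/
theorem top_td4 (OV : OverD4)
    (ih : ∀ (K₀ : Type) [Field K₀] [Fintype K₀] [CharP K₀ r] (q₀ : ℕ), q₀ < q → IsPrimePow q₀ →
      Fintype.card K₀ = q₀ ^ 3 → Gen p ↥(twistedD4 K₀ q₀))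
    {E : Subgroup (MulAut ↥(twistedD4 K q))} (hE : IsElementaryAbelian p E) (hc : p ^ 2 ≤ Nat.card E)
    {x : MulAut ↥(twistedD4 K q)} (hx : x ∈ E) (hx' : x ∉ InD (em q f)) : Gam p E = ⊤ := by
  have : Fact p.Prime := ⟨hpp⟩
  have hr : r.Prime := Fact.out
  have hfin : Finite ↥(twistedD4 K q) := Finite.of_injective _ (Subgroup.subtype_injective _)
  obtain ⟨hmn, hm0, -⟩ := (cases_td4 hq hK hpp hp5 f hn0 hn (hE.2 x hx)).resolve_left hx'
  obtain ⟨F₀, hF₀, -⟩ := H192.Fc.exists_subfield (p := p) r (F := K) (m := 3 * (n / p)) (n := 3 * n) (by omega)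
    (by rw [mul_assoc, hmn]) (by rw [Nat.card_eq_fintype_card, hK, hn, ← pow_mul, mul_comm])
  have hchar : CharP ↥F₀ r := (RingHom.charP_iff F₀.subtype F₀.subtype.injective r).2 inferInstance
  have := Fintype.ofFinite ↥F₀
  have hF₀' : Nat.card ↥F₀ = (r ^ (n / p)) ^ 3 := by rw [hF₀, ← pow_mul, mul_comm]
  have hgen : Gen p ↥(twistedD4 ↥F₀ (r ^ (n / p))) := ih ↥F₀ (r ^ (n / p)) (by
      rw [hn]
      refine Nat.pow_lt_pow_right hr.one_lt ?_
      calc n / p = n / p * 1 := (mul_one _).symm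
        _ < n / p * p := Nat.mul_lt_mul_of_pos_left hpp.one_lt hm0
        _ = n := hmn) ((isPrimePow_nat_iff _).2 ⟨r, n / p, hr, hm0, rfl⟩) (by
    rw [← Nat.card_eq_fintype_card, hF₀'])
  refine (ff_td4 OV hq hK hpp hp5 f hn hn0 hm0 hmn hF₀' hgen).top (fun z hz => ?_) hE hc hx hx'
  exact (cases_td4 hq hK hpp hp5 f hn0 hn (hE.2 z hz)).imp_right fun h => h.2.2

end Main

end Cfsg.Agent.H900.TwD
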